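import Groth.Agent.H52.OpenRange
import Groth.Agent.Lib.Homog.Tower
import Groth.Agent.Lib.Homog.Affine
import Groth.Agent.Lib.FreeRes.OfFree
import Groth.Agent.H54.ChevNoeth
import Groth.Agent.Lib.ActSep.GenericTransporter
import Groth.Agent.Lib.GrpQ.FfMonoGrp
import Groth.Agent.S3278

/-!
# Finite component groups, and conjugation stability of the neutral component
-/

set_option autoImplicit false
set_option linter.style.haveILetI false

universe u

open CategoryTheory MonoidalCategory CartesianMonoidalCategory MonObj GrpObj AlgebraicGeometry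

namespace Groth.Agent.H60.NormAff

open Groth.Agent.Lib Groth.Agent.Lib.GrpQ Groth.Agent.Lib.GrpQ.MonoClosed

variable {k : Type u} [Field k]

theorem isEssentiallyFree_of_field {X : Scheme.{u}} (f : X ⟶ Spec (CommRingCat.of k)) [IsAffineHom f] :
    SGA3x.IsEssentiallyFree f := by
  refine FreeRes.isEssentiallyFree_of_isAffineHom f fun s => ⟨⟨⊤, isAffineOpen_top _⟩, trivial, ?_⟩
  letI : Field Γ(Spec (CommRingCat.of k), ⊤) :=
    ((Scheme.ΓSpecIso (CommRingCat.of k)).commRingCatIsoToRingEquiv.toMulEquiv.isField (Field.toIsField k)).toField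
  letI := (f.app ⊤).hom.toAlgebra
  exact Module.Projective.of_free

variable [IsAlgClosed k] {H H₀ : Over (Spec (CommRingCat.of k))} [GrpObj H] [GrpObj H₀]
  [LocallyOfFiniteType H.hom] (j : H₀ ⟶ H) [IsMonHom j] [IsOpenImmersion j.left]

omit [IsAlgClosed k] [GrpObj H] [GrpObj H₀] [IsMonHom j] in
include j in
theorem lft_sub : LocallyOfFiniteType H₀.hom := by rw [← Over.w j]; infer_instance

theorem isClosedImmersion_sub : IsClosedImmersion j.left := by
  haveI := lft_sub j
  exact IsClosedImmersion.of_isPreimmersion j.left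
    (H52.OpenRange.isClosed_range_of_isOpen j j.left.isOpenEmbedding.isOpen_range)

theorem conj_mem [ConnectedSpace H₀.left] {T : Over (Spec (CommRingCat.of k))} (x : T ⟶ H) (h : T ⟶ H₀) :
    ∃ h' : T ⟶ H₀, x * (h ≫ j) * x⁻¹ = h' ≫ j := by
  haveI := lft_sub j
  haveI : LocallyOfFiniteType (H ⊗ H₀).hom := by
    rw [← Over.w (fst H H₀)]
    haveI : LocallyOfFiniteType (fst H H₀).left := GrpSch.fst_left_of (P := @LocallyOfFiniteType) H ‹_›
    infer_instance
  let Φ : H ⊗ H₀ ⟶ H := fst H H₀ * (snd H H₀ ≫ j) * (fst H H₀)⁻¹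
  have ho : IsOpen (Set.range j.left) := j.left.isOpenEmbedding.isOpen_range
  have hc : IsClosed (Set.range j.left) := H52.OpenRange.isClosed_range_of_isOpen j ho
  have hall : Set.range Φ.left ⊆ Set.range j.left := by
    rintro _ ⟨z, rfl⟩
    by_contra hz
    obtain ⟨w, hw⟩ := exists_ptOf (X := H ⊗ H₀) (s := (Φ.left ⁻¹' Set.range j.left)ᶜ)
      (ho.preimage Φ.left.continuous).isClosed_compl.isLocallyClosed ⟨z, hz⟩
    let cg : H₀ ⟶ H := lift (toUnit H₀ ≫ w ≫ fst H H₀) (𝟙 H₀) ≫ Φ
    have hone : ptOf (η[H₀]) ∈ cg.left ⁻¹' Set.range j.left := by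
      refine ⟨ptOf η[H₀], ?_⟩
      rw [ptOf_comp, ptOf_comp, IsMonHom.one_hom]
      congr 1
      simp only [cg, Φ, MonObj.comp_mul, GrpObj.comp_inv, comp_lift_assoc, Category.comp_id, lift_fst,
        lift_snd_assoc, IsMonHom.one_hom]
      rw [show η[H] = (1 : 𝟙_ _ ⟶ H) by rw [Hom.one_def, toUnit_unique (toUnit _) (𝟙 _), Category.id_comp]]
      simp
    have huniv : cg.left ⁻¹' Set.range j.left = Set.univ :=
      IsClopen.eq_univ ⟨hc.preimage cg.left.continuous, ho.preimage cg.left.continuous⟩ ⟨_, hone⟩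
    apply hw
    have hm : ptOf (w ≫ snd H H₀) ∈ cg.left ⁻¹' Set.range j.left := huniv ▸ trivial
    rw [Set.mem_preimage, ptOf_comp] at hm
    rw [Set.mem_preimage, ptOf_comp]
    have e : (w ≫ snd H H₀) ≫ cg = w ≫ Φ := by
      simp only [cg, comp_lift_assoc, Category.comp_id]
      rw [← Category.assoc (w ≫ snd H H₀), toUnit_unique ((w ≫ snd H H₀) ≫ toUnit H₀) (𝟙 _), Category.id_comp,
        ← comp_lift_assoc, lift_fst_snd, Category.id_comp]
    rwa [e] at hm
  have hr : Set.range (lift x h ≫ Φ).left ⊆ Set.range j.left := by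
    rintro _ ⟨z, rfl⟩
    exact hall ⟨(lift x h).left z, by rw [← Scheme.Hom.comp_apply]; rfl⟩
  refine ⟨Over.homMk (IsOpenImmersion.lift j.left _ hr) (by
    rw [← Over.w j, IsOpenImmersion.lift_fac_assoc, Over.w]), ?_⟩
  have e : x * (h ≫ j) * x⁻¹ = lift x h ≫ Φ := by
    simp only [Φ, MonObj.comp_mul, GrpObj.comp_inv, lift_fst, lift_snd_assoc]
  rw [e]
  exact (Over.OverMorphism.ext (IsOpenImmersion.lift_fac _ _ _)).symm

theorem isFinite_quotient [QuasiCompact H.hom] {F : Over (Spec (CommRingCat.of k))} {b : AlgGrp.Action H F}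
    {y : 𝟙_ (Over (Spec (CommRingCat.of k))) ⟶ F} (hF : AGF.IsQuotient j F b y) : IsFinite F.hom := by
  haveI := hF.1; haveI := hF.2.1; haveI := hF.2.2.1
  haveI : IsLocallyNoetherian F.left := LocallyOfFiniteType.isLocallyNoetherian F.hom
  haveI : LocallyOfFiniteType ((b.orbitMap y).left ≫ F.hom) := by rw [Over.w]; infer_instance
  haveI := locallyOfFiniteType_of_comp (b.orbitMap y).left F.hom
  haveI : LocallyOfFinitePresentation (b.orbitMap y).left := inferInstance
  have hopen : IsOpenMap (b.orbitMap y).left := (b.orbitMap y).left.isOpenMap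
  haveI : JacobsonSpace F.left := LocallyOfFiniteType.jacobsonSpace F.hom
  haveI : CompactSpace H.left := QuasiCompact.compactSpace_of_compactSpace H.hom
  haveI : CompactSpace F.left :=
    ⟨by rw [← (b.orbitMap y).left.surjective.range_eq]; exact isCompact_range (b.orbitMap y).left.continuous⟩
  -- closed points are open
  have hcl : ∀ c ∈ closedPoints F.left, IsOpen ({c} : Set F.left) := by
    intro c hc
    obtain ⟨g, hg⟩ := exists_ptOf (X := H) (s := (b.orbitMap y).left ⁻¹' {c})
      (IsClosed.preimage (b.orbitMap y).left.continuous hc).isLocallyClosed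
      ((b.orbitMap y).left.surjective c |>.imp fun _ h => h)
    rw [Set.mem_preimage, Set.mem_singleton_iff, ptOf_comp] at hg
    let L : H ⟶ H := (toUnit H ≫ g⁻¹) * 𝟙 H
    let U := L.left ⁻¹' Set.range j.left
    have hU : IsOpen U := j.left.isOpenEmbedding.isOpen_range.preimage L.left.continuous
    have hgU : ptOf g ∈ U := by
      refine ⟨ptOf η[H₀], ?_⟩
      rw [ptOf_comp, ptOf_comp, IsMonHom.one_hom]
      congr 1
      simp only [L, MonObj.comp_mul, Category.comp_id]
      rw [← Category.assoc, toUnit_unique (g ≫ toUnit H) (𝟙 _), Category.id_comp, inv_mul_cancel,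
        Hom.one_def, toUnit_unique (toUnit _) (𝟙 _), Category.id_comp]
    have himg : (b.orbitMap y).left '' U = {c} := by
      refine Set.Subset.antisymm ?_ (Set.singleton_subset_iff.2 ⟨_, hgU, by rw [ptOf_comp, hg]⟩)
      rintro _ ⟨x, ⟨t, ht⟩, rfl⟩
      rw [Set.mem_singleton_iff, ← hg]
      let L' : H ⟶ H := (toUnit H ≫ g) * 𝟙 H
      have e1 : L ≫ L' = 𝟙 H := by
        simp only [L', MonObj.comp_mul, Category.comp_id, ← Category.assoc L, toUnit_unique (L ≫ toUnit H) (toUnit H)]
        simp only [L, ← _root_.mul_assoc, ← MonObj.comp_mul, mul_inv_cancel, MonObj.comp_one, _root_.one_mul]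
      have ex : x = L'.left (j.left t) := by
        rw [ht, ← Scheme.Hom.comp_apply, ← Over.comp_left, e1]; rfl
      have e2 : (j ≫ L') ≫ b.orbitMap y = toUnit H₀ ≫ g ≫ b.orbitMap y := by
        have hj := Homog.comp_orbit_of_quotient hF.2.2.2
        simp only [L', MonObj.comp_mul, Category.comp_id]
        rw [← Category.assoc j, toUnit_unique (j ≫ toUnit H) (toUnit H₀), GrpSch.mul_orbit, hj,
          GrpSch.comp_orbit b g y, ← Category.assoc (toUnit H₀) (lift g _), comp_lift, ← Category.assoc _ (toUnit _) y,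
          toUnit_unique (toUnit H₀ ≫ toUnit _) (toUnit H₀)]
      rw [ex, ← Scheme.Hom.comp_apply j.left, ← Over.comp_left, ← Scheme.Hom.comp_apply,
        ← Over.comp_left, e2, Over.comp_left, Scheme.Hom.comp_apply]
      exact congrArg _ (Subsingleton.elim (α := PrimeSpectrum k) _ _)
    rw [← himg]
    exact hopen _ hU
  have hdisc : DiscreteTopology F.left := by
    refine discreteTopology_iff_isOpen_singleton.2 fun x => ?_
    obtain ⟨c, hcx, hc⟩ := nonempty_inter_closedPoints (Set.nonempty_of_mem (subset_closure (Set.mem_singleton x)))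
      isClosed_closure.isLocallyClosed
    have : x ∈ ({c} : Set F.left) := (specializes_iff_mem_closure.2 hcx).mem_open (hcl c hc) rfl
    rw [Set.mem_singleton_iff] at this
    exact this ▸ hcl c hc
  haveI : Finite F.left := finite_of_compact_of_discrete
  haveI : QuasiCompact F.hom := (quasiCompact_iff_compactSpace F.hom).2 inferInstance
  haveI : LocallyQuasiFinite F.hom :=
    LocallyQuasiFinite.of_finite_preimage_singleton F.hom fun s => Set.toFinite _
  exact IsFinite.of_locallyQuasiFinite F.hom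

end Groth.Agent.H60.NormAff
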